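import Mathlib.Algebra.Homology.DerivedCategory.ExactFunctor
import Mathlib.Algebra.Homology.Embedding.Connect
import Mathlib.CategoryTheory.Abelian.SerreClass.Localization

/-! Every complex in a Serre quotient lifts to a complex; essential surjectivity on derived categories. -/

universe w w' v v' u u'

open CategoryTheory CategoryTheory.Limits

set_option backward.defeqAttrib.useBackward true
set_option backward.isDefEq.respectTransparency false
namespace Groth.L10.SerreLoc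

variable {A : Type u} [Category.{v} A] [Abelian A] (P : ObjectProperty A) [P.IsSerreClass]
  {B : Type u'} [Category.{v'} B] [Abelian B] (L : A ⥤ B) [L.IsLocalization P.isoModSerre] [L.Additive]

open ObjectProperty.SerreClassLocalization in
include P in
theorem exists_right {X Y : A} {a b c : B} (f : X ⟶ Y) (eX : L.obj X ≅ a) (eY : L.obj Y ≅ b)
    (d : a ⟶ b) (hf : L.map f ≫ eY.hom = eX.hom ≫ d) (d' : b ⟶ c) (hd : d ≫ d' = 0) :
    ∃ (Z : A) (g : Y ⟶ Z) (eZ : L.obj Z ≅ c), L.map g ≫ eZ.hom = eY.hom ≫ d' ∧ f ≫ g = 0 := by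
  have := Localization.essSurj L P.isoModSerre
  let eW := L.objObjPreimageIso c
  obtain ⟨φ, hφ⟩ := Localization.exists_leftFraction L P.isoModSerre (eY.hom ≫ d' ≫ eW.inv)
  have : IsIso (L.map φ.s) := Localization.inverts L P.isoModSerre _ φ.hs
  let e₁ : L.obj φ.Y' ≅ c := (asIso (L.map φ.s)).symm ≪≫ eW
  have h1 : L.map φ.f ≫ e₁.hom = eY.hom ≫ d' := by
    have h := hφ =≫ eW.hom
    simp only [Category.assoc, Iso.inv_hom_id, Category.comp_id, MorphismProperty.LeftFraction.map] at h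
    simp [e₁, h]
  have h0 : L.map (f ≫ φ.f) = 0 := by
    rw [← cancel_mono e₁.hom, zero_comp, L.map_comp, Category.assoc, h1, ← Category.assoc, hf, Category.assoc, hd, comp_zero]
  have hπ : P.isoModSerre (cokernel.π (f ≫ φ.f)) :=
    P.isoModSerre_of_epi _ ((map_eq_zero_iff L P _).1 h0)
  have : IsIso (L.map (cokernel.π (f ≫ φ.f))) := Localization.inverts L P.isoModSerre _ hπ
  refine ⟨_, φ.f ≫ cokernel.π (f ≫ φ.f), (asIso (L.map (cokernel.π (f ≫ φ.f)))).symm ≪≫ e₁, ?_, ?_⟩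
  · simp [h1]
  · rw [← Category.assoc, cokernel.condition]

open ObjectProperty.SerreClassLocalization in
include P in
theorem exists_left {X Y : A} {a b c : B} (f : X ⟶ Y) (eX : L.obj X ≅ a) (eY : L.obj Y ≅ b)
    (d : a ⟶ b) (hf : L.map f ≫ eY.hom = eX.hom ≫ d) (d' : c ⟶ a) (hd : d' ≫ d = 0) :
    ∃ (Z : A) (g : Z ⟶ X) (eZ : L.obj Z ≅ c), L.map g ≫ eX.hom = eZ.hom ≫ d' ∧ g ≫ f = 0 := by
  have := Localization.essSurj L P.isoModSerre
  let eW := L.objObjPreimageIso c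
  obtain ⟨φ, hφ⟩ := Localization.exists_rightFraction L P.isoModSerre (eW.hom ≫ d' ≫ eX.inv)
  have : IsIso (L.map φ.s) := Localization.inverts L P.isoModSerre _ φ.hs
  let e₁ : L.obj φ.X' ≅ c := asIso (L.map φ.s) ≪≫ eW
  have h1 : L.map φ.f ≫ eX.hom = e₁.hom ≫ d' := by
    have h := hφ =≫ eX.hom
    simp only [Category.assoc, Iso.inv_hom_id, Category.comp_id, MorphismProperty.RightFraction.map] at h
    simp [e₁, h]
  have h0 : L.map (φ.f ≫ f) = 0 := by
    rw [← cancel_mono eY.hom, zero_comp, L.map_comp, Category.assoc, hf, ← Category.assoc, h1, Category.assoc, hd, comp_zero]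
  have hι : P.isoModSerre (kernel.ι (φ.f ≫ f)) :=
    P.isoModSerre_of_mono _ (P.prop_of_iso (Abelian.coimageIsoImage _).symm ((map_eq_zero_iff L P _).1 h0))
  have : IsIso (L.map (kernel.ι (φ.f ≫ f))) := Localization.inverts L P.isoModSerre _ hι
  refine ⟨_, kernel.ι (φ.f ≫ f) ≫ φ.f, asIso (L.map (kernel.ι (φ.f ≫ f))) ≪≫ e₁, ?_, ?_⟩
  · simp [h1]
  · rw [Category.assoc, kernel.condition]

variable (K : CochainComplex B ℤ)

/-- A lift of one differential `K.X i ⟶ K.X j`. -/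
structure Edge (i j : ℤ) where
  X : A
  Y : A
  f : X ⟶ Y
  eX : L.obj X ≅ K.X i
  eY : L.obj Y ≅ K.X j
  w : L.map f ≫ eY.hom = eX.hom ≫ K.d i j

variable {L K}

include P in
theorem nextRight {i j k : ℤ} (E : Edge L K i j) :
    ∃ (Z : A) (g : E.Y ⟶ Z) (eZ : L.obj Z ≅ K.X k), L.map g ≫ eZ.hom = E.eY.hom ≫ K.d j k ∧ E.f ≫ g = 0 :=
  exists_right P L E.f E.eX E.eY _ E.w _ (K.d_comp_d i j k)

include P in
theorem nextLeft {i j k : ℤ} (E : Edge L K i j) :
    ∃ (Z : A) (g : Z ⟶ E.X) (eZ : L.obj Z ≅ K.X k), L.map g ≫ E.eX.hom = eZ.hom ≫ K.d k i ∧ g ≫ E.f = 0 :=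
  exists_left P L E.f E.eX E.eY _ E.w _ (K.d_comp_d k i j)

include P in
theorem exists_edge : Nonempty (Edge L K (-1) 0) := by
  have := Localization.essSurj L P.isoModSerre
  let e₀ := L.objObjPreimageIso (K.X 0)
  obtain ⟨Z, g, eZ, h, -⟩ := exists_left P L (0 : L.objPreimage (K.X 0) ⟶ L.objPreimage (K.X 0)) e₀ e₀ (0 : K.X 0 ⟶ K.X 0)
    (by simp) (K.d (-1) 0) comp_zero
  exact ⟨⟨Z, _, g, eZ, e₀, h⟩⟩

variable (L K)

include P in
theorem exists_lift : ∃ C : CochainComplex A ℤ, Nonempty ((L.mapHomologicalComplex (ComplexShape.up ℤ)).obj C ≅ K) := by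
  let E₀ : Edge L K (-1) 0 := (exists_edge P).some
  have hR : ∀ (i j : ℤ) (E : Edge L K i j) (k : ℤ), ∃ E' : Edge L K j k, ∃ h : E'.X = E.Y,
      E.f ≫ eqToHom h.symm ≫ E'.f = 0 ∧ E'.eX.hom = L.map (eqToHom h) ≫ E.eY.hom := fun i j E k => by
    obtain ⟨Z, g, eZ, h, h'⟩ := nextRight P (k := k) E
    exact ⟨⟨E.Y, Z, g, E.eY, eZ, h⟩, rfl, by simpa using h', by simp⟩
  have hL : ∀ (i j : ℤ) (E : Edge L K i j) (k : ℤ), ∃ E' : Edge L K k i, ∃ h : E'.Y = E.X,
      E'.f ≫ eqToHom h ≫ E.f = 0 ∧ E'.eY.hom = L.map (eqToHom h) ≫ E.eX.hom := fun i j E k => by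
    obtain ⟨Z, g, eZ, h, h'⟩ := nextLeft P (k := k) E
    exact ⟨⟨Z, E.X, g, eZ, E.eX, h⟩, rfl, by simpa using h', by simp⟩
  choose nR hnR hnR0 hnRe using hR
  choose nL hnL hnL0 hnLe using hL
  let R : ∀ n : ℕ, Σ i : ℤ, Edge L K i (n : ℤ) := fun n =>
    Nat.rec (motive := fun n => Σ i : ℤ, Edge L K i (n : ℤ)) ⟨-1, E₀⟩
      (fun m E => ⟨(m : ℤ), nR _ _ E.2 ((m + 1 : ℕ) : ℤ)⟩) n
  let S : ∀ n : ℕ, Σ j : ℤ, Edge L K (Int.negSucc n) j := fun n =>
    Nat.rec (motive := fun n => Σ j : ℤ, Edge L K (Int.negSucc n) j) ⟨0, E₀⟩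
      (fun m E => ⟨Int.negSucc m, nL _ _ E.2 (Int.negSucc (m + 1))⟩) n
  let dR : ∀ n, (R n).2.Y ⟶ (R (n + 1)).2.Y := fun n => eqToHom (hnR _ _ (R n).2 _).symm ≫ (R (n + 1)).2.f
  let dS : ∀ n, (S (n + 1)).2.X ⟶ (S n).2.X := fun n => (S (n + 1)).2.f ≫ eqToHom (hnL _ _ (S n).2 _)
  have hR2 : ∀ n, dR n ≫ dR (n + 1) = 0 := fun n => by
    simp only [dR, Category.assoc]
    rw [hnR0 _ _ (R (n + 1)).2, comp_zero]
  have hS2 : ∀ n, dS (n + 1) ≫ dS n = 0 := fun n => by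
    simp only [dS, Category.assoc]
    rw [← Category.assoc (eqToHom _) (S (n + 1)).2.f, ← Category.assoc, ← Category.assoc]
    have := hnL0 _ _ (S (n + 1)).2 (Int.negSucc (n + 1 + 1))
    simp only [Category.assoc] at this ⊢
    rw [reassoc_of% this, zero_comp]
  have hR1 : E₀.f ≫ dR 0 = 0 := hnR0 _ _ E₀ _
  have hS1 : dS 0 ≫ E₀.f = 0 := by
    have := hnL0 _ _ E₀ (Int.negSucc 1)
    simp only [dS, Category.assoc]
    exact this
  let Kc : ChainComplex A ℕ := ChainComplex.of (fun n => (S n).2.X) dS hS2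
  let Lc : CochainComplex A ℕ := CochainComplex.of (fun n => (R n).2.Y) dR hR2
  have hRd : ∀ n, Lc.d n (n + 1) = dR n := fun n => CochainComplex.of_d (fun n => (R n).2.Y) dR n
  have hSd : ∀ n, Kc.d (n + 1) n = dS n := fun n => ChainComplex.of_d (fun n => (S n).2.X) dS n
  let h : CochainComplex.ConnectData Kc Lc :=
    { d₀ := E₀.f
      comp_d₀ := by rw [hSd]; exact hS1
      d₀_comp := by rw [hRd]; exact hR1 }
  let e : ∀ n : ℤ, L.obj (h.cochainComplex.X n) ≅ K.X n := fun n =>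
    match n with
    | .ofNat m => (R m).2.eY
    | .negSucc m => (S m).2.eX
  refine ⟨h.cochainComplex, ⟨HomologicalComplex.Hom.isoOfComponents e fun i j hij => ?_⟩⟩
  obtain rfl : i + 1 = j := hij
  symm
  obtain m | (_ | m) := i
  · change L.map (Lc.d m (m + 1)) ≫ (R (m + 1)).2.eY.hom = (R m).2.eY.hom ≫ K.d (m : ℤ) ((m + 1 : ℕ) : ℤ)
    rw [hRd, L.map_comp, Category.assoc, (R (m + 1)).2.w]
    rw [show (R (m + 1)).2.eX.hom = _ from hnRe _ _ (R m).2 _, ← Category.assoc, ← Category.assoc, ← L.map_comp,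
      eqToHom_trans, eqToHom_refl, L.map_id, Category.id_comp]
  · exact E₀.w
  · change L.map (Kc.d (m + 1) m) ≫ (S m).2.eX.hom = (S (m + 1)).2.eX.hom ≫ K.d (Int.negSucc (m + 1)) (Int.negSucc m)
    rw [hSd, L.map_comp, Category.assoc, ← show (S (m + 1)).2.eY.hom = _ from hnLe _ _ (S m).2 _]
    exact (S (m + 1)).2.w

include P in
/-- `D(A) ⥤ D(A/P)` is essentially surjective. -/
theorem essSurj_mapDerivedCategory [HasDerivedCategory.{w} A] [HasDerivedCategory.{w'} B]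
    [PreservesFiniteLimits L] [PreservesFiniteColimits L] : L.mapDerivedCategory.EssSurj where
  mem_essImage Z := by
    obtain ⟨C, ⟨e⟩⟩ := exists_lift P L (DerivedCategory.Q.objPreimage Z)
    exact ⟨DerivedCategory.Q.obj C, ⟨L.mapDerivedCategoryFactors.app C ≪≫ DerivedCategory.Q.mapIso e ≪≫
      DerivedCategory.Q.objObjPreimageIso Z⟩⟩

end Groth.L10.SerreLoc
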