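import Mathlib.Algebra.Homology.DerivedCategory.ExactFunctor
import Mathlib.Algebra.Homology.DerivedCategory.HomologySequence
import Mathlib.CategoryTheory.Localization.Adjunction
import Mathlib.CategoryTheory.Localization.Composition
import Mathlib.CategoryTheory.Abelian.SerreClass.Localization
import Mathlib.CategoryTheory.Adjunction.FullyFaithful
import Mathlib.CategoryTheory.Adjunction.Additive
import Mathlib.CategoryTheory.Triangulated.Subcategory

/-! `D(A) ⥤ D(A/P)` is a localization when the quotient functor has a fully faithful left adjoint. -/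

universe w w' v v' u u'

open CategoryTheory CategoryTheory.Limits CategoryTheory.Pretriangulated ZeroObject

set_option backward.defeqAttrib.useBackward true
set_option backward.isDefEq.respectTransparency false
namespace Groth.L10.SerreLoc

variable {A : Type u} [Category.{v} A] [Abelian A] [HasDerivedCategory.{w} A]
  {B : Type u'} [Category.{v'} B] [Abelian B] [HasDerivedCategory.{w'} B]
  (v : A ⥤ B) [v.Additive] [PreservesFiniteLimits v] [PreservesFiniteColimits v]

local notation "up" => ComplexShape.up ℤ

theorem isZero_iff_homology (Z : DerivedCategory B) :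
    IsZero Z ↔ ∀ n : ℤ, IsZero ((DerivedCategory.homologyFunctor B n).obj Z) := by
  refine ⟨fun h n => (DerivedCategory.homologyFunctor B n).map_isZero h, fun h => ?_⟩
  have : IsIso (0 : Z ⟶ 0) := (DerivedCategory.isIso_iff B _).2 fun n =>
    ⟨0, (h n).eq_of_src _ _, (((DerivedCategory.homologyFunctor B n).map_isZero (isZero_zero _))).eq_of_src _ _⟩
  exact (isZero_zero _).of_iso (asIso (0 : Z ⟶ 0))

theorem nonempty_homology_map (Z : DerivedCategory A) (n : ℤ) :
    Nonempty ((DerivedCategory.homologyFunctor B n).obj (v.mapDerivedCategory.obj Z) ≅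
      v.obj ((DerivedCategory.homologyFunctor A n).obj Z)) := by
  obtain ⟨K, ⟨e⟩⟩ : ∃ K, Nonempty (DerivedCategory.Q.obj K ≅ Z) :=
    ⟨_, ⟨DerivedCategory.Q.objObjPreimageIso Z⟩⟩
  exact ⟨(DerivedCategory.homologyFunctor B n).mapIso (v.mapDerivedCategory.mapIso e.symm ≪≫ v.mapDerivedCategoryFactors.app K) ≪≫
    (DerivedCategory.homologyFunctorFactors B n).app _ ≪≫ (K.sc n).mapHomologyIso v ≪≫
    v.mapIso ((DerivedCategory.homologyFunctorFactors A n).symm.app K ≪≫ (DerivedCategory.homologyFunctor A n).mapIso e)⟩

variable (P : ObjectProperty A) [P.IsSerreClass] [v.IsLocalization P.isoModSerre]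

theorem isZero_map_iff (Z : DerivedCategory A) :
    IsZero (v.mapDerivedCategory.obj Z) ↔ ∀ n : ℤ, P ((DerivedCategory.homologyFunctor A n).obj Z) := by
  rw [isZero_iff_homology]
  refine forall_congr' fun n => ?_
  obtain ⟨e⟩ := nonempty_homology_map v Z n
  rw [e.isZero_iff, ObjectProperty.SerreClassLocalization.isZero_obj_iff v P]

theorem trW_eq :
    ObjectProperty.trW (fun X : DerivedCategory A => ∀ n : ℤ, P ((DerivedCategory.homologyFunctor A n).obj X)) =
      (MorphismProperty.isomorphisms (DerivedCategory B)).inverseImage v.mapDerivedCategory := by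
  ext X Y f
  rw [MorphismProperty.inverseImage_iff, MorphismProperty.isomorphisms.iff]
  constructor
  · rw [ObjectProperty.trW_iff]
    rintro ⟨Z, g, h, hT, hZ⟩
    exact (Triangle.isZero₃_iff_isIso₁ _ (v.mapDerivedCategory.map_distinguished _ hT)).1 ((isZero_map_iff v P Z).2 hZ)
  · intro hf
    obtain ⟨Z, g, h, hT⟩ := distinguished_cocone_triangle f
    rw [ObjectProperty.trW_iff]
    exact ⟨Z, g, h, hT, (isZero_map_iff v P Z).1
      ((Triangle.isZero₃_iff_isIso₁ _ (v.mapDerivedCategory.map_distinguished _ hT)).2 hf)⟩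

variable {v}

theorem isLocalization (u : B ⥤ A) (adj : u ⊣ v) [IsIso adj.unit] :
    v.mapDerivedCategory.IsLocalization
      (ObjectProperty.trW (fun X : DerivedCategory A => ∀ n : ℤ, P ((DerivedCategory.homologyFunctor A n).obj X))) := by
  rw [trW_eq v P]
  have : u.Additive := adj.left_adjoint_additive
  let vc := v.mapHomologicalComplex up
  let uc := u.mapHomologicalComplex up
  let η : 𝟭 (CochainComplex B ℤ) ≅ uc ⋙ vc := NatIso.ofComponents
    (fun K => HomologicalComplex.Hom.isoOfComponents (fun i => asIso (adj.unit.app (K.X i)))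
      (fun i j _ => (adj.unit.naturality (K.d i j)).symm))
    (fun f => by ext i; exact adj.unit.naturality (f.f i))
  let adjc : uc ⊣ vc := Adjunction.mkOfUnitCounit
    { unit := η.hom
      counit :=
        { app := fun K => { f := fun i => adj.counit.app (K.X i)
                            comm' := fun i j _ => (adj.counit.naturality (K.d i j)).symm }
          naturality := fun K L f => by ext i; exact adj.counit.naturality (f.f i) }
      left_triangle := by ext K i; simp [η, uc, vc]
      right_triangle := by ext K i; simp [η, uc, vc] }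
  have : IsIso adjc.unit := inferInstanceAs (IsIso η.hom)
  have : uc.Full := adjc.fullyFaithfulLOfIsIsoUnit.full
  have : uc.Faithful := adjc.fullyFaithfulLOfIsIsoUnit.faithful
  have h1 := adjc.isLocalization'
  let W3 : MorphismProperty (CochainComplex A ℤ) :=
    (MorphismProperty.isomorphisms (DerivedCategory B)).inverseImage (vc ⋙ DerivedCategory.Q)
  have : (vc ⋙ DerivedCategory.Q).IsLocalization W3 :=
    Functor.IsLocalization.comp vc DerivedCategory.Q
      ((MorphismProperty.isomorphisms (HomologicalComplex B up)).inverseImage vc) (HomologicalComplex.quasiIso B up) W3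
      (fun _ _ _ hf => hf)
      (fun _ _ f hf => by
        have : IsIso (vc.map f) := hf
        exact (inferInstance : IsIso (DerivedCategory.Q.map (vc.map f))))
      (fun K L f hf => ⟨_, _, uc.map f, by
          have : QuasiIso f := hf
          show IsIso ((uc ⋙ vc ⋙ DerivedCategory.Q).map f)
          exact (NatIso.isIso_map_iff (Functor.isoWhiskerRight η DerivedCategory.Q) f).1
            (inferInstanceAs (IsIso (DerivedCategory.Q.map f))),
        ⟨Arrow.isoMk (η.symm.app K) (η.symm.app L) (η.inv.naturality f).symm⟩⟩)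
  have : (DerivedCategory.Q ⋙ v.mapDerivedCategory).IsLocalization W3 :=
    Functor.IsLocalization.of_iso W3 v.mapDerivedCategoryFactors.symm
  have hinv : ∀ {K L : CochainComplex A ℤ} (f : K ⟶ L), W3 f ↔ IsIso (v.mapDerivedCategory.map (DerivedCategory.Q.map f)) :=
    fun f => (NatIso.isIso_map_iff v.mapDerivedCategoryFactors f).symm
  refine Functor.IsLocalization.of_comp DerivedCategory.Q v.mapDerivedCategory (HomologicalComplex.quasiIso A up) _ W3
    (fun _ _ f hf => (hinv f).2 (by
      have : QuasiIso f := hf
      infer_instance)) ?_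
  apply le_antisymm
  · intro X Y g hg
    change IsIso (v.mapDerivedCategory.map g) at hg
    obtain ⟨f₀, ⟨e⟩⟩ : ∃ f₀ : Arrow (HomotopyCategory A up), Nonempty (DerivedCategory.Qh.mapArrow.obj f₀ ≅ Arrow.mk g) :=
      (Localization.essSurj_mapArrow _ (HomotopyCategory.subcategoryAcyclic A).trW).mem_essImage (Arrow.mk g)
    obtain ⟨K, hK⟩ := HomotopyCategory.quotient_obj_surjective f₀.left
    obtain ⟨L, hL⟩ := HomotopyCategory.quotient_obj_surjective f₀.right
    obtain ⟨φ, hφ⟩ := (HomotopyCategory.quotient A up).map_surjective (eqToHom hK ≫ f₀.hom ≫ eqToHom hL.symm)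
    have hw : DerivedCategory.Qh.map (eqToHom hK) ≫ DerivedCategory.Qh.map f₀.hom =
        DerivedCategory.Qh.map ((HomotopyCategory.quotient A up).map φ) ≫ DerivedCategory.Qh.map (eqToHom hL) := by
      rw [← Functor.map_comp, ← Functor.map_comp, hφ]
      simp
    let e₁ : Arrow.mk (DerivedCategory.Q.map φ) ≅ Arrow.mk (DerivedCategory.Qh.map ((HomotopyCategory.quotient A up).map φ)) :=
      Arrow.isoMk ((DerivedCategory.quotientCompQhIso A).symm.app K) ((DerivedCategory.quotientCompQhIso A).symm.app L)
        ((DerivedCategory.quotientCompQhIso A).inv.naturality φ).symm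
    let e₂ : Arrow.mk (DerivedCategory.Qh.map ((HomotopyCategory.quotient A up).map φ)) ≅ DerivedCategory.Qh.mapArrow.obj f₀ :=
      Arrow.isoMk (DerivedCategory.Qh.mapIso (eqToIso hK)) (DerivedCategory.Qh.mapIso (eqToIso hL)) hw
    let e' : Arrow.mk (DerivedCategory.Q.map φ) ≅ Arrow.mk g := e₁ ≪≫ e₂ ≪≫ e
    have hφ' : W3 φ := (hinv φ).2 (((MorphismProperty.isomorphisms _).arrow_mk_iso_iff
      (v.mapDerivedCategory.mapArrow.mapIso e')).2 hg)
    exact ⟨_, _, φ, hφ', ⟨e'⟩⟩
  · rintro X Y g ⟨K, L, φ, hφ, ⟨e⟩⟩
    exact ((MorphismProperty.isomorphisms _).arrow_mk_iso_iff (v.mapDerivedCategory.mapArrow.mapIso e)).1 ((hinv φ).1 hφ)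

end Groth.L10.SerreLoc
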